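import Groth.Agent.LocHilbGlueLib.Alg
import Groth.Agent.FibreVanishQC.GlobGen
import Groth.Agent.IdealStalkLib.Comap
import Groth.Agent.ArtFunLib.Basic
import Groth.Prelude.Def_ArtFun6

/-! The local Hilbert functor in affine coordinates. -/

set_option autoImplicit false
set_option backward.isDefEq.respectTransparency false
set_option backward.isDefEq.respectTransparency.types false
set_option linter.style.haveILetI false

universe u

open CategoryTheory CategoryTheory.Limits AlgebraicGeometry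
open scoped TensorProduct

noncomputable section

namespace Groth.Agent.LocHilbGlueLib

open ArtFun ArtFun.Art

variable {k : Type u} [Field k] {X : Scheme.{u}} (x : X ⟶ specPt k)

/-- The scalars in the functions on an open. -/
def algR (V : X.Opens) : CommRingCat.of k ⟶ Γ(X, V) :=
  (Scheme.ΓSpecIso (CommRingCat.of k)).inv ≫ x.appLE ⊤ V le_top

/-- The functions on an open, as an algebra over the field. -/
@[reducible] def algV (V : X.Opens) : Algebra k Γ(X, V) := (algR x V).hom.toAlgebra

/-- The open of `X ×_k Spec C` over an open of `X`. -/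
def UA (C : Art k k) (V : X.Opens) : (XA x C).Opens := pullback.fst x (specOver C) ⁻¹ᵁ V

instance (C : Art k k) : IsAffineHom (pullback.fst x (specOver C)) :=
  MorphismProperty.pullback_fst _ _ (by delta specOver; infer_instance)

theorem isAffineOpen_UA (C : Art k k) {V : X.Opens} (hV : IsAffineOpen V) : IsAffineOpen (UA x C V) :=
  hV.preimage (pullback.fst x (specOver C))

theorem preimage_UA {A B : Art k k} (g : A ⟶ B) (V : X.Opens) : XAmap x g ⁻¹ᵁ UA x A V = UA x B V := by
  show (XAmap x g ≫ pullback.fst x (specOver A)) ⁻¹ᵁ V = pullback.fst x (specOver B) ⁻¹ᵁ V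
  rw [XAmap_fst]

instance {A B : Art k k} (g : A ⟶ B) : IsAffineHom (XAmap x g) :=
  MorphismProperty.of_isPullback (isPullback_XAmap x g).flip (inferInstanceAs (IsAffineHom (specMap g)))

/-- The coefficients in the functions on an open. -/
def cmap (C : Art k k) (V : X.Opens) : CommRingCat.of C ⟶ Γ(XA x C, UA x C V) :=
  (Scheme.ΓSpecIso (CommRingCat.of C)).inv ≫ (XApr x C).appLE ⊤ (UA x C V) le_top

/-- Functions on `X` as functions on the product. -/
def fR (C : Art k k) (V : X.Opens) : Γ(X, V) ⟶ Γ(XA x C, UA x C V) :=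
  (pullback.fst x (specOver C)).appLE V (UA x C V) le_rfl

theorem isPushout (C : Art k k) {V : X.Opens} (hV : IsAffineOpen V) :
    IsPushout (algR x V) (CommRingCat.ofHom (algebraMap k C)) (fR x C V) (cmap x C V) := by
  have h := Groth.Agent.FibreVanishQC.isPushout_app (IsPullback.of_hasPullback x (specOver C)) hV
  refine h.of_iso (Scheme.ΓSpecIso (CommRingCat.of k)) (Iso.refl _) (Scheme.ΓSpecIso (CommRingCat.of C)) (Iso.refl _) ?_ ?_ ?_ ?_
  · simp [algR, Scheme.Hom.appLE, Scheme.Hom.appTop]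
  · exact (Scheme.ΓSpecIso_naturality (CommRingCat.ofHom (algebraMap k C)))
  · simp [fR, Scheme.Hom.app_eq_appLE, UA]
  · simp [cmap, Scheme.Hom.appLE, Scheme.Hom.appTop]

/-- Affine coordinates on the product. -/
def theta (C : Art k k) {V : X.Opens} (hV : IsAffineOpen V) :
    letI := algV x V
    CommRingCat.of (C ⊗[k] Γ(X, V)) ⟶ Γ(XA x C, UA x C V) :=
  letI := algV x V
  (CommRingCat.isPushout_tensorProduct k C Γ(X, V)).desc (cmap x C V) (fR x C V) (isPushout x C hV).w.symm

instance isIso_theta (C : Art k k) {V : X.Opens} (hV : IsAffineOpen V) : IsIso (theta x C hV) := by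
  letI := algV x V
  let e := (CommRingCat.isPushout_tensorProduct k C Γ(X, V)).isoIsPushout _ _ (isPushout x C hV).flip
  rw [show theta x C hV = e.hom from (CommRingCat.isPushout_tensorProduct k C Γ(X, V)).hom_ext
    (by simp [theta, e]) (by simp [theta, e])]
  infer_instance

theorem theta_left (C : Art k k) {V : X.Opens} (hV : IsAffineOpen V) :
    letI := algV x V
    CommRingCat.ofHom Algebra.TensorProduct.includeLeftRingHom ≫ theta x C hV = cmap x C V :=
  letI := algV x V
  (CommRingCat.isPushout_tensorProduct k C Γ(X, V)).inl_desc _ _ _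

theorem theta_right (C : Art k k) {V : X.Opens} (hV : IsAffineOpen V) :
    letI := algV x V
    CommRingCat.ofHom (Algebra.TensorProduct.includeRight : Γ(X, V) →ₐ[k] C ⊗[k] Γ(X, V)).toRingHom ≫ theta x C hV =
      fR x C V :=
  letI := algV x V
  (CommRingCat.isPushout_tensorProduct k C Γ(X, V)).inr_desc _ _ _

/-- The map on functions. -/
def sres {A B : Art k k} (g : A ⟶ B) (V : X.Opens) : Γ(XA x A, UA x A V) ⟶ Γ(XA x B, UA x B V) :=
  (XAmap x g).appLE (UA x A V) (UA x B V) (preimage_UA x g V).ge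

theorem theta_natural {A B : Art k k} (g : A ⟶ B) {V : X.Opens} (hV : IsAffineOpen V) :
    letI := algV x V
    theta x A hV ≫ sres x g V = CommRingCat.ofHom (tmap Γ(X, V) g.toAlgHom).toRingHom ≫ theta x B hV := by
  letI := algV x V
  refine (CommRingCat.isPushout_tensorProduct k A Γ(X, V)).hom_ext ?_ ?_
  · rw [reassoc_of% (theta_left x A hV)]
    have h2 : CommRingCat.ofHom (Algebra.TensorProduct.includeLeftRingHom : A →+* A ⊗[k] Γ(X, V)) ≫
        CommRingCat.ofHom (tmap Γ(X, V) g.toAlgHom).toRingHom =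
        CommRingCat.ofHom g.toAlgHom.toRingHom ≫
          CommRingCat.ofHom (Algebra.TensorProduct.includeLeftRingHom : B →+* B ⊗[k] Γ(X, V)) := by
      ext c
      exact tmap_tmul g.toAlgHom c 1
    rw [reassoc_of% h2, theta_left]
    simp only [cmap, sres, Category.assoc, Scheme.Hom.appLE_comp_appLE]
    rw [← Category.assoc (CommRingCat.ofHom _), Scheme.ΓSpecIso_inv_naturality, Category.assoc]
    congr 1
    rw [Scheme.Hom.appTop, Scheme.Hom.app_eq_appLE]
    erw [Scheme.Hom.appLE_comp_appLE]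
    simp only [XAmap_snd]
  · rw [reassoc_of% (theta_right x A hV)]
    have h2 : CommRingCat.ofHom (Algebra.TensorProduct.includeRight : Γ(X, V) →ₐ[k] A ⊗[k] Γ(X, V)).toRingHom ≫
        CommRingCat.ofHom (tmap Γ(X, V) g.toAlgHom).toRingHom =
        CommRingCat.ofHom (Algebra.TensorProduct.includeRight : Γ(X, V) →ₐ[k] B ⊗[k] Γ(X, V)).toRingHom := by
      ext r
      show tmap Γ(X, V) g.toAlgHom ((1 : A) ⊗ₜ r) = (1 : B) ⊗ₜ r
      rw [tmap_tmul, map_one]
    rw [reassoc_of% h2, theta_right]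
    simp only [fR, sres, Scheme.Hom.appLE_comp_appLE, XAmap_fst]

/-- An ideal sheaf in affine coordinates. -/
def JV (C : Art k k) {V : X.Opens} (hV : IsAffineOpen V) (I : (XA x C).IdealSheafData) :
    letI := algV x V
    Ideal (C ⊗[k] Γ(X, V)) :=
  (I.ideal ⟨_, isAffineOpen_UA x C hV⟩).comap (theta x C hV).hom

theorem theta_bijective (C : Art k k) {V : X.Opens} (hV : IsAffineOpen V) : Function.Bijective (theta x C hV).hom :=
  (ConcreteCategory.bijective_of_isIso (theta x C hV))

theorem map_JV (C : Art k k) {V : X.Opens} (hV : IsAffineOpen V) (I : (XA x C).IdealSheafData) :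
    (JV x C hV I).map (theta x C hV).hom = I.ideal ⟨_, isAffineOpen_UA x C hV⟩ :=
  Ideal.map_comap_of_surjective _ (theta_bijective x C hV).2 _

theorem ext_JV (C : Art k k) {I J : (XA x C).IdealSheafData}
    (h : ∀ (V : X.Opens) (hV : IsAffineOpen V), JV x C hV I = JV x C hV J) : I = J := by
  refine Scheme.IdealSheafData.ext_of_iSup_eq_top
    (fun V : X.affineOpens => (⟨UA x C V.1, isAffineOpen_UA x C V.2⟩ : (XA x C).affineOpens)) ?_ fun V => ?_
  · refine eq_top_iff.mpr fun z _ => ?_
    obtain ⟨_, ⟨V, hV, rfl⟩, hz, -⟩ :=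
      X.isBasis_affineOpens.exists_subset_of_mem_open (Set.mem_univ (pullback.fst x (specOver C) z)) isOpen_univ
    exact TopologicalSpace.Opens.mem_iSup.mpr ⟨⟨V, hV⟩, hz⟩
  · rw [← map_JV x C V.2 I, ← map_JV x C V.2 J, h]

theorem JV_comap {A B : Art k k} (g : A ⟶ B) {V : X.Opens} (hV : IsAffineOpen V) (I : (XA x A).IdealSheafData) :
    letI := algV x V
    JV x B hV (I.comap (XAmap x g)) = (JV x A hV I).map (tmap Γ(X, V) g.toAlgHom) := by
  letI := algV x V
  rw [JV, IdealStalkLib.comap_ideal I (XAmap x g) (isAffineOpen_UA x A hV) (isAffineOpen_UA x B hV) (preimage_UA x g V).ge]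
  have h := congrArg CommRingCat.Hom.hom (theta_natural x g hV)
  rw [← map_JV x A hV I, Ideal.map_map]
  show Ideal.comap (theta x B hV).hom ((JV x A hV I).map ((sres x g V).hom.comp (theta x A hV).hom)) = _
  rw [← CommRingCat.hom_comp, theta_natural x g hV, CommRingCat.hom_comp, ← Ideal.map_map,
    Ideal.comap_map_of_bijective _ (theta_bijective x B hV)]
  rfl

theorem ideal_map_appLE {Y Z : Scheme.{u}} (I : Z.IdealSheafData) (f : Z ⟶ Y) [IsAffineHom f] (U : Y.affineOpens)
    {W : Z.Opens} (hW : IsAffineOpen W) (h : f ⁻¹ᵁ U.1 = W) :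
    (I.map f).ideal U = (I.ideal ⟨W, hW⟩).comap (f.appLE U.1 W h.ge).hom := by
  subst h
  rw [Scheme.Hom.appLE_eq_app]
  exact Scheme.IdealSheafData.ideal_map_of_isAffineHom I f U

theorem JV_map {A B : Art k k} (g : A ⟶ B) {V : X.Opens} (hV : IsAffineOpen V) (I : (XA x B).IdealSheafData) :
    letI := algV x V
    JV x A hV (I.map (XAmap x g)) = (JV x B hV I).comap (tmap Γ(X, V) g.toAlgHom) := by
  letI := algV x V
  rw [JV, ideal_map_appLE I (XAmap x g) _ (isAffineOpen_UA x B hV) (preimage_UA x g V), Ideal.comap_comap]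
  show Ideal.comap ((sres x g V).hom.comp (theta x A hV).hom) _ = _
  rw [← CommRingCat.hom_comp, theta_natural x g hV, CommRingCat.hom_comp, ← Ideal.comap_comap]
  rfl

theorem JV_inf (C : Art k k) {V : X.Opens} (hV : IsAffineOpen V) (I J : (XA x C).IdealSheafData) :
    letI := algV x V
    JV x C hV (I ⊓ J) = JV x C hV I ⊓ JV x C hV J := by
  letI := algV x V
  simp only [JV, Scheme.IdealSheafData.ideal_inf, Pi.inf_apply, Ideal.comap_inf]

theorem flat_piece_iff (C : Art k k) {V : X.Opens} (hV : IsAffineOpen V) (I : (XA x C).IdealSheafData) :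
    letI := algV x V
    Flat ((I.subschemeι ⁻¹ᵁ UA x C V).ι ≫ I.subschemeι ≫ XApr x C) ↔
      Module.Flat C ((C ⊗[k] Γ(X, V)) ⧸ JV x C hV I) := by
  letI := algV x V
  let U : (XA x C).affineOpens := ⟨_, isAffineOpen_UA x C hV⟩
  let W : I.subscheme.Opens := I.subschemeι ⁻¹ᵁ UA x C V
  haveI : IsAffine W.toScheme := (isAffineOpen_UA x C hV).preimage I.subschemeι
  rw [HasRingHomProperty.iff_of_isAffine (P := @Flat)]
  let ψ : C ⊗[k] Γ(X, V) →+* Γ(I.subscheme, W) := (I.subschemeι.app U.1).hom.comp (theta x C hV).hom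
  have hψ : Function.Surjective ψ := (I.subschemeι_app_surjective U).comp (theta_bijective x C hV).2
  have hker : RingHom.ker ψ = JV x C hV I := by
    rw [← RingHom.comap_ker]
    exact congrArg (Ideal.comap _) (I.ker_subschemeι_app U)
  let φ : CommRingCat.of C ⟶ Γ(I.subscheme, W) := cmap x C V ≫ I.subschemeι.app U.1
  have hφ : φ = (Scheme.ΓSpecIso (CommRingCat.of C)).inv ≫ (W.ι ≫ I.subschemeι ≫ XApr x C).appTop ≫ W.topIso.hom := by
    simp only [φ, cmap, Category.assoc, Scheme.Hom.app_eq_appLE, Scheme.Hom.appTop, Scheme.Opens.topIso_hom]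
    simp [Scheme.Hom.appLE, W, UA, U]
    congr 2
    erw [Category.id_comp, ← Functor.map_comp]
    rfl
  letI : Algebra C Γ(I.subscheme, W) := φ.hom.toAlgebra
  have h1 : (W.ι ≫ I.subschemeι ≫ XApr x C).appTop.hom.Flat ↔ φ.hom.Flat := by
    rw [hφ, ← Category.assoc (Scheme.ΓSpecIso (CommRingCat.of C)).inv, CommRingCat.hom_comp, RingHom.Flat.respectsIso.cancel_right_isIso, CommRingCat.hom_comp,
      RingHom.Flat.respectsIso.cancel_left_isIso]
  rw [h1]
  have hC : ∀ c : C, ψ (algebraMap C (C ⊗[k] Γ(X, V)) c) = φ c := fun c => by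
    show I.subschemeι.app U.1 ((CommRingCat.ofHom Algebra.TensorProduct.includeLeftRingHom ≫ theta x C hV) c) = _
    rw [theta_left]
    rfl
  let ψa : C ⊗[k] Γ(X, V) →ₐ[C] Γ(I.subscheme, W) := { ψ with commutes' := hC }
  have hk : RingHom.ker ψa = JV x C hV I := hker
  let e := ((Ideal.quotientEquivAlgOfEq C hk.symm).trans
    (Ideal.quotientKerAlgEquivOfSurjective (f := ψa) hψ)).toLinearEquiv
  refine ⟨fun h => ?_, fun h => ?_⟩
  · haveI : Module.Flat C Γ(I.subscheme, W) := h
    exact Module.Flat.of_linearEquiv e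
  · haveI := h
    exact Module.Flat.of_linearEquiv e.symm

theorem flatOver_iff (C : Art k k) (I : (XA x C).IdealSheafData) :
    FlatOver X x C I ↔ ∀ (V : X.Opens) (hV : IsAffineOpen V),
      letI := algV x V
      Module.Flat C ((C ⊗[k] Γ(X, V)) ⧸ JV x C hV I) := by
  have hcov : ⨆ V : X.affineOpens, I.subschemeι ⁻¹ᵁ UA x C V.1 = ⊤ := by
    refine eq_top_iff.mpr fun z _ => ?_
    obtain ⟨_, ⟨V, hV, rfl⟩, hz, -⟩ := X.isBasis_affineOpens.exists_subset_of_mem_open
      (Set.mem_univ (pullback.fst x (specOver C) (I.subschemeι z))) isOpen_univ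
    exact TopologicalSpace.Opens.mem_iSup.mpr ⟨⟨V, hV⟩, hz⟩
  unfold FlatOver
  rw [IsZariskiLocalAtSource.iff_of_iSup_eq_top (P := @Flat) _ hcov]
  exact ⟨fun h V hV => (flat_piece_iff x C hV I).1 (h ⟨V, hV⟩), fun h V => (flat_piece_iff x C V.2 I).2 (h V.1 V.2)⟩

end Groth.Agent.LocHilbGlueLib
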