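import Mathlib
import Groth.Agent.HilbObsLib.Alg

/-! Gluing flat quotients along a fibre product of Artinian rings: the algebra. -/

set_option autoImplicit false
set_option linter.style.haveILetI false
set_option backward.isDefEq.respectTransparency false
set_option backward.isDefEq.respectTransparency.types false

noncomputable section

namespace Groth.Agent.LocHilbGlueLib

open TensorProduct IsLocalRing

universe u

variable {k R : Type u} [Field k] [CommRing R] [Algebra k R]
variable {B C D : Type u} [CommRing B] [CommRing C] [CommRing D] [Algebra k B] [Algebra k C] [Algebra k D]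

variable (R) in
/-- Extension of a map of coefficient algebras to `R`. -/
def tmap (f : B →ₐ[k] C) : B ⊗[k] R →ₐ[k] C ⊗[k] R := Algebra.TensorProduct.map f (AlgHom.id k R)

theorem tmap_tmul (f : B →ₐ[k] C) (b : B) (r : R) : tmap R f (b ⊗ₜ r) = f b ⊗ₜ r := rfl

theorem tmap_comp (g : C →ₐ[k] D) (f : B →ₐ[k] C) (x : B ⊗[k] R) : tmap R g (tmap R f x) = tmap R (g.comp f) x := by
  induction x using TensorProduct.induction_on with
  | zero => simp
  | tmul b r => simp [tmap_tmul]
  | add x y hx hy => simp [hx, hy]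

theorem tmap_smul (f : B →ₐ[k] C) (b : B) (x : B ⊗[k] R) : tmap R f (b • x) = f b • tmap R f x := by
  induction x using TensorProduct.induction_on with
  | zero => simp
  | tmul c r => simp [TensorProduct.smul_tmul', tmap_tmul]
  | add x y hx hy => simp [smul_add, hx, hy]

theorem tmap_surjective (f : B →ₐ[k] C) (hf : Function.Surjective f) : Function.Surjective (tmap R f) :=
  TensorProduct.map_surjective hf Function.surjective_id

theorem mem_smul_of_tmap_eq_zero (f : B →ₐ[k] C) (hf : Function.Surjective f) {x : B ⊗[k] R}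
    (hx : tmap R f x = 0) : x ∈ (RingHom.ker f • ⊤ : Submodule B (B ⊗[k] R)) := by
  have h : x ∈ RingHom.ker (Algebra.TensorProduct.map f (AlgHom.id k R)) := hx
  rw [Algebra.TensorProduct.rTensor_ker f hf] at h
  refine Submodule.span_induction ?_ (zero_mem _) (fun a b _ _ ha hb => add_mem ha hb) ?_ h
  · rintro _ ⟨c, hc, rfl⟩
    have e : (Algebra.TensorProduct.includeLeft : B →ₐ[k] B ⊗[k] R) c = c • ((1 : B) ⊗ₜ[k] (1 : R)) := by
      simp [TensorProduct.smul_tmul']
    rw [e]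
    exact Submodule.smul_mem_smul hc Submodule.mem_top
  · intro a z _ hz
    refine Submodule.smul_induction_on hz (fun c hc y _ => ?_) (fun p q hp hq => ?_)
    · rw [smul_eq_mul, mul_smul_comm]
      exact Submodule.smul_mem_smul hc Submodule.mem_top
    · rw [smul_add]
      exact add_mem hp hq

section data

variable {A A' A'' : Type u} [CommRing A] [CommRing A'] [CommRing A''] [Algebra k A] [Algebra k A'] [Algebra k A'']

variable (B A' A'' A) in
/-- A fibre product with a small extension on the right. -/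
structure Data [IsLocalRing B] [IsLocalRing A''] : Type u where
  p' : B →ₐ[k] A'
  p'' : B →ₐ[k] A''
  f' : A' →ₐ[k] A
  f'' : A'' →ₐ[k] A
  res : A →ₐ[k] k
  hw : f'.comp p' = f''.comp p''
  inj : ∀ b, p' b = 0 → p'' b = 0 → b = 0
  surj : ∀ a' a'', f' a' = f'' a'' → ∃ b, p' b = a' ∧ p'' b = a''
  hf'' : Function.Surjective f''
  hp' : Function.Surjective p'
  ε : B
  ker_p' : ∀ b, p' b = 0 → ∃ c : B, b = c * ε
  hε : p' ε = 0
  hm : ∀ b ∈ maximalIdeal B, b * ε = 0
  hεm : ε ∈ maximalIdeal B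
  hε'' : p'' ε ≠ 0
  hresB : RingHom.ker ((res.comp f').comp p') = maximalIdeal B
  hresA'' : RingHom.ker (res.comp f'') = maximalIdeal A''
  hres : Function.Surjective res
  hnil : IsNilpotent (maximalIdeal B)

variable [IsLocalRing B] [IsLocalRing A''] (d : Data (k := k) B A A' A'')

/-- The glued ideal. -/
def glue (I' : Ideal (A' ⊗[k] R)) (I'' : Ideal (A'' ⊗[k] R)) : Ideal (B ⊗[k] R) :=
  I'.comap (tmap R d.p') ⊓ I''.comap (tmap R d.p'')

theorem exists_pair {x' : A' ⊗[k] R} {x'' : A'' ⊗[k] R} (h : tmap R d.f' x' = tmap R d.f'' x'') :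
    ∃ x, tmap R d.p' x = x' ∧ tmap R d.p'' x = x'' := by
  let φ : B →ₗ[k] A' × A'' := d.p'.toLinearMap.prod d.p''.toLinearMap
  let ψ : A' × A'' →ₗ[k] A := d.f'.toLinearMap.coprod (-d.f''.toLinearMap)
  have hex : Function.Exact φ ψ := by
    rintro ⟨a', a''⟩
    constructor
    · intro h0
      obtain ⟨b, h1, h2⟩ := d.surj a' a'' (add_neg_eq_zero.1 h0)
      exact ⟨b, Prod.ext h1 h2⟩
    · rintro ⟨b, hb⟩
      obtain ⟨rfl, rfl⟩ := Prod.ext_iff.1 hb
      show d.f' (d.p' b) + -(d.f'' (d.p'' b)) = 0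
      rw [add_neg_eq_zero]
      exact congrArg (fun g : B →ₐ[k] A => g b) d.hw
  have hexT := Module.Flat.rTensor_exact R hex
  let z := (TensorProduct.prodLeft k k A' A'' R).symm (x', x'')
  have hfst : ∀ w : (A' × A'') ⊗[k] R,
      (TensorProduct.prodLeft k k A' A'' R w).1 = (LinearMap.fst k A' A'').rTensor R w ∧
      (TensorProduct.prodLeft k k A' A'' R w).2 = (LinearMap.snd k A' A'').rTensor R w ∧
      ψ.rTensor R w = tmap R d.f' (TensorProduct.prodLeft k k A' A'' R w).1 -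
        tmap R d.f'' (TensorProduct.prodLeft k k A' A'' R w).2 := by
    intro w
    induction w using TensorProduct.induction_on with
    | zero => simp
    | tmul a r =>
      obtain ⟨a₁, a₂⟩ := a
      simp [tmap_tmul, ψ, TensorProduct.prodLeft_tmul, TensorProduct.add_tmul, TensorProduct.neg_tmul, sub_eq_add_neg]
    | add u v hu hv =>
      simp only [map_add, Prod.fst_add, Prod.snd_add, hu.1, hu.2.1, hv.1, hv.2.1, hu.2.2, hv.2.2, true_and]
      abel
  obtain ⟨x, hx⟩ := (hexT z).1 (by rw [(hfst z).2.2]; simp [z, h])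
  refine ⟨x, ?_, ?_⟩
  · have : tmap R d.p' x = (LinearMap.fst k A' A'').rTensor R (φ.rTensor R x) := by
      rw [← LinearMap.rTensor_comp_apply]; rfl
    rw [this, hx, ← (hfst z).1]
    simp [z]
  · have : tmap R d.p'' x = (LinearMap.snd k A' A'').rTensor R (φ.rTensor R x) := by
      rw [← LinearMap.rTensor_comp_apply]; rfl
    rw [this, hx, ← (hfst z).2.1]
    simp [z]

theorem eq_eps_smul {x : B ⊗[k] R} (h : tmap R d.p' x = 0) : ∃ y, x = d.ε • y := by
  refine Submodule.smul_induction_on (mem_smul_of_tmap_eq_zero d.p' d.hp' h) (fun b hb y _ => ?_) (fun a b ha hb => ?_)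
  · obtain ⟨c, hc⟩ := d.ker_p' b hb
    exact ⟨c • y, by rw [hc, smul_smul, mul_comm]⟩
  · obtain ⟨y, rfl⟩ := ha
    obtain ⟨z, rfl⟩ := hb
    exact ⟨y + z, (smul_add _ _ _).symm⟩

variable (I' : Ideal (A' ⊗[k] R)) (I'' : Ideal (A'' ⊗[k] R))
  (hI : I'.map (tmap R d.f') = I''.map (tmap R d.f''))

include hI in
theorem exists_lift_mem {x' : A' ⊗[k] R} (hx : x' ∈ I') : ∃ j ∈ glue d I' I'', tmap R d.p' j = x' := by
  have h : tmap R d.f' x' ∈ I''.map (tmap R d.f'') := hI ▸ Ideal.mem_map_of_mem _ hx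
  obtain ⟨x'', hx'', he⟩ := (Ideal.mem_map_iff_of_surjective (tmap R d.f'') (tmap_surjective d.f'' d.hf'')).1 h
  obtain ⟨j, h1, h2⟩ := exists_pair d he.symm
  exact ⟨j, ⟨show tmap R d.p' j ∈ I' from h1.symm ▸ hx, show tmap R d.p'' j ∈ I'' from h2.symm ▸ hx''⟩, h1⟩

include hI in
theorem map_glue_left : (glue d I' I'').map (tmap R d.p') = I' := by
  refine le_antisymm (Ideal.map_le_iff_le_comap.2 inf_le_left) fun x hx => ?_
  obtain ⟨j, hj, rfl⟩ := exists_lift_mem d I' I'' hI hx
  exact Ideal.mem_map_of_mem _ hj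

include hI in
theorem map_glue_right : (glue d I' I'').map (tmap R d.p'') = I'' := by
  refine le_antisymm (Ideal.map_le_iff_le_comap.2 inf_le_right) fun x hx => ?_
  have hsub : I'.map (tmap R d.f') ≤ ((glue d I' I'').map (tmap R d.p'')).map (tmap R d.f'') := by
    refine Ideal.map_le_iff_le_comap.2 fun y hy => ?_
    obtain ⟨j, hj, rfl⟩ := exists_lift_mem d I' I'' hI hy
    show tmap R d.f' (tmap R d.p' j) ∈ ((glue d I' I'').map (tmap R d.p'')).map (tmap R d.f'')
    rw [tmap_comp, d.hw, ← tmap_comp]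
    exact Ideal.mem_map_of_mem _ (Ideal.mem_map_of_mem _ hj)
  obtain ⟨y, hy, he⟩ := (Ideal.mem_map_iff_of_surjective (tmap R d.f'') (tmap_surjective d.f'' d.hf'')).1
    (hsub (show tmap R d.f'' x ∈ I'.map (tmap R d.f') by rw [hI]; exact Ideal.mem_map_of_mem _ hx))
  obtain ⟨j, h1, h2⟩ := exists_pair d (x' := (0 : A' ⊗[k] R)) (x'' := x - y) (by rw [map_zero, map_sub, he, sub_self])
  have hyI : y ∈ I'' := Ideal.map_le_iff_le_comap.2 inf_le_right hy
  have hj : j ∈ glue d I' I'' :=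
    ⟨show tmap R d.p' j ∈ I' from h1.symm ▸ zero_mem _, show tmap R d.p'' j ∈ I'' from h2.symm ▸ sub_mem hx hyI⟩
  rw [← sub_add_cancel x y, ← h2]
  exact add_mem (Ideal.mem_map_of_mem _ hj) hy

variable (hflat : Module.Flat A'' ((A'' ⊗[k] R) ⧸ I''))

include hI hflat in
/-- A multiple of `ε` lies in `I''` only for the obvious reason. -/
theorem cap {y : B ⊗[k] R} (h : tmap R d.p'' (d.ε • y) ∈ I'') :
    ∃ n, tmap R d.p' n ∈ I' ∧ y - n ∈ (maximalIdeal B • ⊤ : Submodule B (B ⊗[k] R)) := by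
  rw [tmap_smul] at h
  let mk : A'' ⊗[k] R →ₗ[A''] (A'' ⊗[k] R) ⧸ (I''.restrictScalars A'') := (I''.restrictScalars A'').mkQ
  have h0 : d.p'' d.ε • mk (tmap R d.p'' y) = 0 := by
    rw [← map_smul]
    exact (Submodule.Quotient.mk_eq_zero _).2 h
  haveI : Module.Flat A'' ((A'' ⊗[k] R) ⧸ (I''.restrictScalars A'')) := hflat
  have h1 := HilbObsLib.mem_of_smul_eq_zero (d.p'' d.ε) d.hε'' h0
  rw [← Submodule.range_mkQ (I''.restrictScalars A''), ← Submodule.map_top, ← Submodule.map_smul''] at h1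
  obtain ⟨w, hw, he⟩ := h1
  have hwy : tmap R d.p'' y - w ∈ I'' := (Submodule.Quotient.eq (I''.restrictScalars A'')).1 he.symm
  let rA := tmap R d.res
  have hw0 : rA (tmap R d.f'' w) = 0 := by
    refine Submodule.smul_induction_on hw (fun a ha z _ => ?_) (fun a b ha hb => by rw [map_add, map_add, ha, hb, add_zero])
    rw [tmap_smul, tmap_smul, show d.res (d.f'' a) = 0 from RingHom.mem_ker.1 (d.hresA''.symm ▸ ha :
      a ∈ RingHom.ker (d.res.comp d.f'')), zero_smul]
  have hmem : rA (tmap R d.f' (tmap R d.p' y)) ∈ (I'.map (tmap R d.f')).map rA := by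
    rw [tmap_comp d.f' d.p', d.hw, ← tmap_comp, hI, ← sub_add_cancel (tmap R d.p'' y) w, map_add, map_add, hw0, add_zero]
    exact Ideal.mem_map_of_mem _ (Ideal.mem_map_of_mem _ hwy)
  have hsur : Function.Surjective (tmap R ((d.res.comp d.f').comp d.p') : B ⊗[k] R →ₐ[k] k ⊗[k] R) :=
    tmap_surjective _ fun c => by
      obtain ⟨a, rfl⟩ := d.hres c
      obtain ⟨a'', rfl⟩ := d.hf'' a
      exact ⟨algebraMap k B (d.res (d.f'' a'')), by simp⟩
  have hmem' : rA (tmap R d.f' (tmap R d.p' y)) ∈ (I'.comap (tmap R d.p')).map (tmap R ((d.res.comp d.f').comp d.p')) := by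
    refine (?_ : (I'.map (tmap R d.f')).map rA ≤ _) hmem
    rw [Ideal.map_le_iff_le_comap, Ideal.map_le_iff_le_comap]
    intro z hz
    obtain ⟨n, rfl⟩ := tmap_surjective d.p' d.hp' z
    show rA (tmap R d.f' (tmap R d.p' n)) ∈ (I'.comap (tmap R d.p')).map (tmap R ((d.res.comp d.f').comp d.p'))
    rw [tmap_comp, tmap_comp]
    exact Ideal.mem_map_of_mem _ hz
  obtain ⟨n, hn, he'⟩ := (Ideal.mem_map_iff_of_surjective _ hsur).1 hmem'
  refine ⟨n, hn, ?_⟩
  rw [← d.hresB]
  refine mem_smul_of_tmap_eq_zero _ (fun c => ?_) ?_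
  · obtain ⟨a, rfl⟩ := d.hres c
    exact ⟨algebraMap k B (d.res a), by simp⟩
  · rw [map_sub, he', sub_eq_zero, tmap_comp, tmap_comp]

include hI hflat in
theorem eq_glue (J : Ideal (B ⊗[k] R)) (h' : J.map (tmap R d.p') = I') (h'' : J.map (tmap R d.p'') = I'') :
    J = glue d I' I'' := by
  have hle : J ≤ glue d I' I'' := le_inf (Ideal.map_le_iff_le_comap.1 h'.le) (Ideal.map_le_iff_le_comap.1 h''.le)
  refine le_antisymm hle fun x hx => ?_
  have hlift : ∀ z, tmap R d.p' z ∈ I' → ∃ j ∈ J, ∃ y, z - j = d.ε • y := fun z hz => by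
    obtain ⟨j, hj, he⟩ := (Ideal.mem_map_iff_of_surjective (tmap R d.p') (tmap_surjective d.p' d.hp')).1
      (h'.symm ▸ hz : tmap R d.p' z ∈ J.map (tmap R d.p'))
    exact ⟨j, hj, eq_eps_smul d (by rw [map_sub, he, sub_self])⟩
  obtain ⟨j, hj, y, hy⟩ := hlift x hx.1
  obtain ⟨n, hn, hyn⟩ := cap d I' I'' hI hflat (y := y) (by
    rw [← hy, map_sub]
    exact sub_mem hx.2 (hle hj).2)
  obtain ⟨j₂, hj₂, z, hz⟩ := hlift n hn
  have e1 : d.ε • y = d.ε • n := by
    rw [← sub_eq_zero, ← smul_sub]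
    exact HilbObsLib.smul_eq_zero_of_mem d.ε d.hm hyn
  have e2 : d.ε • n = d.ε • j₂ := by
    rw [← sub_eq_zero, ← smul_sub, hz, smul_smul, d.hm _ d.hεm, zero_smul]
  rw [← sub_add_cancel x j, hy, e1, e2]
  exact add_mem (Submodule.smul_of_tower_mem J d.ε hj₂) hj

include hI hflat in
theorem flat_glue (hflat' : Module.Flat A' ((A' ⊗[k] R) ⧸ I')) :
    Module.Flat B ((B ⊗[k] R) ⧸ glue d I' I'') := by
  let Q := (A' ⊗[k] R) ⧸ I'
  let e : (B ⧸ Ideal.span {d.ε}) ≃+* A' :=
    (Ideal.quotEquivOfEq (by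
      refine le_antisymm (Ideal.span_le.2 fun z hz => ?_) fun b hb => ?_
      · obtain rfl := hz
        exact d.hε
      · obtain ⟨c, rfl⟩ := d.ker_p' b hb
        exact Ideal.mul_mem_left _ _ (Ideal.mem_span_singleton_self _) :
      Ideal.span {d.ε} = RingHom.ker d.p'.toRingHom)).trans
      (RingHom.quotientKerEquivOfSurjective (f := d.p'.toRingHom) d.hp')
  have he : ∀ b, e (Ideal.Quotient.mk _ b) = d.p' b := fun b => rfl
  letI : Algebra (B ⧸ Ideal.span {d.ε}) A' := e.toRingHom.toAlgebra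
  letI : Module (B ⧸ Ideal.span {d.ε}) Q := Module.compHom Q e.toRingHom
  letI : Module B Q := Module.compHom Q d.p'.toRingHom
  haveI : IsScalarTower B (B ⧸ Ideal.span {d.ε}) Q := .of_algebraMap_smul fun b m => rfl
  haveI : IsScalarTower (B ⧸ Ideal.span {d.ε}) A' Q := .of_algebraMap_smul fun b m => rfl
  haveI : Module.Flat (B ⧸ Ideal.span {d.ε}) A' :=
    Module.Flat.of_linearEquiv (LinearEquiv.ofBijective (Algebra.linearMap (B ⧸ Ideal.span {d.ε}) A') e.bijective).symm
  haveI : Module.Flat (B ⧸ Ideal.span {d.ε}) Q :=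
    haveI := hflat'; Module.Flat.trans (B ⧸ Ideal.span {d.ε}) A' Q
  let q : (B ⊗[k] R) →ₗ[B] Q :=
    { toFun := fun x => Ideal.Quotient.mk I' (tmap R d.p' x)
      map_add' := fun a b => by simp
      map_smul' := fun b x => by
        show Ideal.Quotient.mk I' (tmap R d.p' (b • x)) = d.p' b • Ideal.Quotient.mk I' (tmap R d.p' x)
        rw [tmap_smul]
        exact Submodule.Quotient.mk_smul _ _ _ }
  have hq : Function.Surjective q := fun z => by
    obtain ⟨w, rfl⟩ := Ideal.Quotient.mk_surjective z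
    obtain ⟨x, rfl⟩ := tmap_surjective d.p' d.hp' w
    exact ⟨x, rfl⟩
  have hker : ∀ n, n ∈ LinearMap.ker q ↔ tmap R d.p' n ∈ I' := fun n => Ideal.Quotient.eq_zero_iff_mem
  have := HilbObsLib.flat_of_lift d.ε d.hm q hq ((glue d I' I'').restrictScalars B) d.hεm d.hnil
    (fun n hn => by
      obtain ⟨j, hj, he⟩ := exists_lift_mem d I' I'' hI ((hker n).1 hn)
      obtain ⟨y, hy⟩ := eq_eps_smul d (x := n - j) (by rw [map_sub, he, sub_self])
      exact ⟨y, by rw [← hy, sub_sub_cancel]; exact hj⟩)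
    (fun n hn => (hker n).2 hn.1)
    (fun y hy => by
      obtain ⟨n, hn, hyn⟩ := cap d I' I'' hI hflat hy.2
      rw [← sub_add_cancel y n, add_comm]
      exact Submodule.add_mem_sup ((hker n).2 hn) hyn)
  exact this

end data

end Groth.Agent.LocHilbGlueLib
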