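import Groth.Agent.LocHilbGlueLib.Scheme
import Groth.Agent.ArtFunLib.Functor
import Groth.Agent.ArtFunLib.FibreProd

/-! Left exactness of the local Hilbert functor along small extensions. -/

set_option autoImplicit false
set_option backward.isDefEq.respectTransparency false
set_option backward.isDefEq.respectTransparency.types false
set_option linter.style.haveILetI false

universe u

open CategoryTheory CategoryTheory.Limits AlgebraicGeometry ArtFun ArtFun.Art
open scoped TensorProduct

noncomputable section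

namespace Groth.Agent.LocHilbGlueLib

variable {k : Type u} [Field k]

theorem isSmallExt_dual : IsSmallExt (toBase (dual k k)) := by
  refine (ArtFunLib.isSmallExt_iff _).mpr ⟨(ArtFun.Art.dual k k).res_surjective, (DualNumber.eps : DualNumber k), ?_, fun m hm => ?_, ?_⟩
  · intro h0
    exact one_ne_zero (α := k) (congrArg TrivSqZeroExt.snd h0)
  · have hm' : TrivSqZeroExt.fst m = 0 := (ArtFun.Art.mem_maximalIdeal_iff _ m).mp hm
    exact TrivSqZeroExt.ext (by
      change TrivSqZeroExt.fst m * 0 = 0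
      rw [mul_zero]) (by
      change TrivSqZeroExt.fst m • (1 : k) + MulOpposite.op (0 : k) • TrivSqZeroExt.snd m = 0
      rw [hm', zero_smul, MulOpposite.op_zero, zero_smul, add_zero])
  · refine le_antisymm (fun z hz => ?_) ((Ideal.span_singleton_le_iff_mem _).mpr rfl)
    have hz' : TrivSqZeroExt.fst z = 0 := hz
    refine Ideal.mem_span_singleton.mpr ⟨((TrivSqZeroExt.snd z, 0) : DualNumber k), TrivSqZeroExt.ext ?_ ?_⟩
    · change TrivSqZeroExt.fst z = 0 * TrivSqZeroExt.snd z
      rw [hz', zero_mul]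
    · change TrivSqZeroExt.snd z = (0 : k) • (0 : k) + MulOpposite.op (TrivSqZeroExt.snd z) • (1 : k)
      rw [zero_smul, zero_add, MulOpposite.smul_eq_mul_unop, MulOpposite.unop_op, one_mul]

theorem exists_data {B A A' A'' : Art k k} {p' : B ⟶ A'} {p'' : B ⟶ A''} {f' : A' ⟶ A} {f'' : A'' ⟶ A}
    (h : IsFibreProd p' p'' f' f'') (hf : IsSmallExt f'') :
    ∃ d : Data (k := k) B A A' A'', d.p' = p'.toAlgHom ∧ d.p'' = p''.toAlgHom ∧ d.f' = f'.toAlgHom ∧
      d.f'' = f''.toAlgHom := by
  obtain ⟨hs, τ, hτ0, hτm, hτk⟩ := (ArtFunLib.isSmallExt_iff p').1 (ArtFunLib.isSmallExt_fst h hf)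
  have hτ : p' τ = 0 := by
    show τ ∈ RingHom.ker p'.toAlgHom
    rw [hτk]
    exact Ideal.mem_span_singleton_self τ
  refine ⟨
    { p' := p'.toAlgHom
      p'' := p''.toAlgHom
      f' := f'.toAlgHom
      f'' := f''.toAlgHom
      res := A.res
      hw := AlgHom.ext h.w_apply
      inj := ?_
      surj := h.surj
      hf'' := hf.1
      hp' := hs
      ε := τ
      ker_p' := ?_
      hε := hτ
      hm := hτm
      hεm := ?_
      hε'' := ?_
      hresB := ?_
      hresA'' := ?_
      hres := A.res_surjective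
      hnil := ArtFunLib.isNilpotent_maximalIdeal B }, rfl, rfl, rfl, rfl⟩
  · exact fun b h1 h2 => h.inj b 0 (h1.trans (map_zero _).symm) (h2.trans (map_zero _).symm)
  · intro b hb
    have hb' : b ∈ RingHom.ker p'.toAlgHom := hb
    rw [hτk] at hb'
    obtain ⟨c, hc⟩ := Ideal.mem_span_singleton'.1 hb'
    exact ⟨c, hc.symm⟩
  · exact ArtFunLib.ker_le_maximalIdeal p' hτ
  · exact fun h2 => hτ0 (h.inj τ 0 (hτ.trans (map_zero _).symm) (h2.trans (map_zero _).symm))
  · ext b
    rw [RingHom.mem_ker, mem_maximalIdeal_iff]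
    show A.res (f' (p' b)) = 0 ↔ _
    rw [res_app, res_app]
  · ext b
    rw [RingHom.mem_ker, mem_maximalIdeal_iff]
    show A.res (f'' b) = 0 ↔ _
    rw [res_app]

variable {X : Scheme.{u}} (x : X ⟶ specPt k) (I₀ : X.IdealSheafData)

theorem cmp_bijective {B A A' A'' : Art k k} {p' : B ⟶ A'} {p'' : B ⟶ A''} {f' : A' ⟶ A} {f'' : A'' ⟶ A}
    (h : IsFibreProd p' p'' f' f'') (hf : IsSmallExt f'') :
    Function.Bijective (cmp (localHilb X x I₀) h) := by
  obtain ⟨d, e1, e2, e3, e4⟩ := exists_data h hf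
  have key : ∀ (I' : (XA x A').IdealSheafData) (I'' : (XA x A'').IdealSheafData), FlatOver X x A'' I'' →
      I'.comap (XAmap x f') = I''.comap (XAmap x f'') → ∀ (V : X.Opens) (hV : IsAffineOpen V),
      letI := algV x V
      (JV x A' hV I').map (tmap Γ(X, V) d.f') = (JV x A'' hV I'').map (tmap Γ(X, V) d.f'') ∧
        Module.Flat A'' ((A'' ⊗[k] Γ(X, V)) ⧸ JV x A'' hV I'') := by
    intro I' I'' hI'' e V hV
    letI := algV x V
    refine ⟨?_, (flatOver_iff x A'' I'').1 hI'' V hV⟩
    rw [e3, e4, ← JV_comap, ← JV_comap, e]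
  refine ⟨(ArtFunLib.cmp_injective_iff h).mpr fun I J h1 h2 => ?_,
    (ArtFunLib.cmp_surjective_iff h).mpr fun I' I'' e => ?_⟩
  · refine Subtype.ext (ext_JV x B fun V hV => ?_)
    letI := algV x V
    have he : (I.1.comap (XAmap x p')).comap (XAmap x f') = (I.1.comap (XAmap x p'')).comap (XAmap x f'') := by
      rw [← Scheme.IdealSheafData.comap_comp, ← Scheme.IdealSheafData.comap_comp, ← XAmap_comp, ← XAmap_comp, h.w]
    have h1' : J.1.comap (XAmap x p') = I.1.comap (XAmap x p') := (congrArg Subtype.val h1).symm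
    have h2' : J.1.comap (XAmap x p'') = I.1.comap (XAmap x p'') := (congrArg Subtype.val h2).symm
    obtain ⟨hI, hfl⟩ := key _ _ (flatOver_comap X x p'' I.1 I.2.1) he V hV
    exact (eq_glue d _ _ hI hfl (JV x B hV I.1) (by rw [e1, ← JV_comap]) (by rw [e2, ← JV_comap])).trans
      (eq_glue d _ _ hI hfl (JV x B hV J.1) (by rw [e1, ← JV_comap, h1']) (by rw [e2, ← JV_comap, h2'])).symm
  · have e' : I'.1.comap (XAmap x f') = I''.1.comap (XAmap x f'') := congrArg Subtype.val e
    let J : (XA x B).IdealSheafData := I'.1.map (XAmap x p') ⊓ I''.1.map (XAmap x p'')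
    have hJ : ∀ (V : X.Opens) (hV : IsAffineOpen V),
        letI := algV x V
        JV x B hV J = glue d (JV x A' hV I'.1) (JV x A'' hV I''.1) := by
      intro V hV
      letI := algV x V
      rw [glue, JV_inf, JV_map, JV_map, e1, e2]
    have h1 : J.comap (XAmap x p') = I'.1 := ext_JV x A' fun V hV => by
      letI := algV x V
      rw [JV_comap, hJ, ← e1]
      exact map_glue_left d _ _ (key _ _ I''.2.1 e' V hV).1
    have h2 : J.comap (XAmap x p'') = I''.1 := ext_JV x A'' fun V hV => by
      letI := algV x V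
      rw [JV_comap, hJ, ← e2]
      exact map_glue_right d _ _ (key _ _ I''.2.1 e' V hV).1
    refine ⟨⟨J, (flatOver_iff x B J).2 fun V hV => ?_, ?_⟩, Subtype.ext h1, Subtype.ext h2⟩
    · letI := algV x V
      rw [hJ]
      exact flat_glue d _ _ (key _ _ I''.2.1 e' V hV).1 (key _ _ I''.2.1 e' V hV).2
        ((flatOver_iff x A' I'.1).1 I'.2.1 V hV)
    · rw [← XAincl_XAmap x p', Scheme.IdealSheafData.comap_comp, h1]
      exact I'.2.2

theorem h0 : H0 (localHilb X x I₀) := by
  have hr : ofBase (base k k) = 𝟙 _ := hom_ext (AlgHom.ext fun c => rfl)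
  have hc : pullback.fst x (specOver (base k k)) ≫ XAincl x (base k k) = 𝟙 _ := by
    refine pullback.hom_ext ?_ ?_
    · rw [Category.assoc, XAincl_fst, Category.comp_id, Category.id_comp]
    · rw [Category.assoc, XAincl_snd, Category.id_comp, comp_specRes_base, pullback.condition]
      show pullback.snd x _ ≫ specMap (ofBase (base k k)) = _
      rw [hr, specMap_id]
      exact Category.comp_id _
  refine ⟨⟨⟨I₀.comap (pullback.fst x (specOver (base k k))), (flatOver_iff x _ _).2 fun V hV => ?_, ?_⟩⟩,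
    ⟨fun I J => Subtype.ext ?_⟩⟩
  · letI : Field (base k k).carrier := inferInstanceAs (Field k)
    infer_instance
  · rw [← Scheme.IdealSheafData.comap_comp, XAincl_fst, Scheme.IdealSheafData.comap_id]
  · rw [← Scheme.IdealSheafData.comap_id (I := I.1), ← Scheme.IdealSheafData.comap_id (I := J.1), ← hc,
      Scheme.IdealSheafData.comap_comp, Scheme.IdealSheafData.comap_comp, I.2.2, J.2.2]

end Groth.Agent.LocHilbGlueLib
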